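import Cfsg.Agent.LThreeM.FiTwo
import Cfsg.Agent.R08.TetBasic
import Cfsg.Agent.OddHalf.D4.Spor.FiTF_m3
import Cfsg.Agent.S1697
import Cfsg.Agent.H162.CC.Tools3
import Cfsg.Agent.FastGrp
import Cfsg.Agent.Prune
set_option linter.all false

section
prune_inst 0x7ffebdfbeffcbddfffff7e7fffffdfffd9bddfffffdffbfbfffd7bffafdf33ef9fc5fbafffe45affdef7e294b1ba7853ff7eefffef6fdc7ffffdfff45ffbee5ff7ffbfad51f7b8341ffe6ffffbf37fafffffffffffffffffffffffffffffffffffffffffffff

-- part: H711/FiEven
section
prune_inst 0x100041001400000000000000000000202000000200000000204001020801000080440000080000100000008000000000000000000020000000000000000000000000000080080000000000000000000000000000000000000000000000000000000000000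
set_option linter.all false
open scoped Cfsg.Agent.FastGrp

-- part: H711/SrgEven
section
/-!
# Elements of order 3 of a rank three 3-transposition group: the centralizer in the even subgroup (helper711)

* `param` : the parameter equation of the rank three graph;
* `even_cent` : `N` a subgroup of index 2 of `G` not containing the transpositions `R.t x`, `g ^ 3 = 1`: the centralizer
  of `g` in `N` has even order (Benson's lemma modulo 2 and the parity of the number of fixed points of an involution).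
-/

set_option autoImplicit false
set_option linter.unusedSectionVars false

namespace Cfsg.Agent.H711.SrgEven

open Subgroup Cfsg.Agent.Fischer.Abstract Cfsg.Agent.LThreeM.SrgFix Cfsg.Agent.LThreeM.Benson
open Cfsg.Agent.R08.TetBasic

/-- the number of elements and the number of fixed points of an involutory map have the same parity -/
theorem modEq_fix {X : Type*} [Finite X] (M : Set X) (σ : X → X) (h1 : ∀ x ∈ M, σ x ∈ M)
    (h2 : ∀ x ∈ M, σ (σ x) = x) : M.ncard ≡ ({x | x ∈ M ∧ σ x = x} : Set X).ncard [MOD 2] := by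
  classical
  have : Fintype ↥M := Fintype.ofFinite _
  have : Fact (Nat.Prime 2) := ⟨Nat.prime_two⟩
  let f : Function.End ↥M := fun x => ⟨σ x, h1 x x.2⟩
  have hf : f ^ 2 ^ 1 = 1 := by
    rw [pow_one, pow_two]
    funext x
    exact Subtype.ext (h2 x x.2)
  have h := Equiv.Perm.card_fixedPoints_modEq hf
  have e1 : Fintype.card ↥M = M.ncard := by
    rw [← Nat.card_eq_fintype_card, Nat.card_coe_set_eq]
  have e2 : Fintype.card ↥(Function.fixedPoints f) = ({x | x ∈ M ∧ σ x = x} : Set X).ncard := by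
    rw [← Nat.card_eq_fintype_card, ← Nat.card_coe_set_eq]
    refine Nat.card_congr ⟨fun x => ⟨x.1.1, x.1.2, congrArg Subtype.val x.2⟩,
      fun x => ⟨⟨x.1, x.2.1⟩, Subtype.ext x.2.2⟩, fun x => rfl, fun x => rfl⟩
  rwa [e1, e2] at h

variable {G X : Type*} [Group G] [MulAction G X] (R : Rank3 G X)

open Classical in
/-- the parameter equation -/
theorem param [Finite X] {k l m : ℕ} (hk : (nb R R.x0).ncard = k) (hl : (cn R R.x0 R.c).ncard = l)
    (hm : (cn R R.x0 R.b).ncard = m) :
    (k : ℚ) * k = k + l * k + m * ((Nat.card X : ℚ) - 1 - k) := by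
  have : Fintype X := Fintype.ofFinite X
  have h := A_sq R hk hl hm
  have h2 := congrArg (fun M => M * J X) h
  rw [mul_assoc, A_mul_J R hk, mul_smul_comm, A_mul_J R hk, smul_smul, add_mul, add_mul, smul_mul_assoc, one_mul,
    smul_mul_assoc, A_mul_J R hk, smul_mul_assoc, sub_mul, sub_mul, one_mul, A_mul_J R hk, J_mul_J] at h2
  have h3 := congrFun (congrFun h2 R.x0) R.x0
  simp only [Matrix.smul_apply, Matrix.add_apply, Matrix.sub_apply, smul_eq_mul, J, Matrix.of_apply, mul_one] at h3
  rw [h3, Nat.card_eq_fintype_card]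

/-- `G`-points fixed by `g` and transpositions -/
theorem fix_iff (g : G) (x : X) : g • x = x ↔ Commute g (R.t x) := R.smul_eq_iff_comm g x

/-- the product of the transpositions of an orbit -/
def pr (g : G) (x : X) : G := R.t x * R.t (g • x) * R.t (g • g • x)

section

variable {g : G} (hg : g ^ 3 = 1)
include hg

theorem smul3 (x : X) : g • g • g • x = x := by
  rw [← mul_smul, ← mul_smul, ← pow_three', hg, one_smul]

variable {x : X} (hx : Adj R x (g • x))
include hx

theorem adj_all : Adj R x (g • x) ∧ Adj R x (g • g • x) ∧ Adj R (g • x) (g • g • x) := by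
  have h23 : Adj R (g • x) (g • g • x) := (adj_smul R g _ _).2 hx
  have h31 : Adj R (g • g • x) x := by
    have h := (adj_smul R g _ _).2 h23
    rwa [smul3 hg] at h
  exact ⟨hx, adj_symm R h31, h23⟩

theorem comm12 : Commute (R.t x) (R.t (g • x)) := (adj_all R hg hx).1.2

theorem comm13 : Commute (R.t x) (R.t (g • g • x)) := (adj_all R hg hx).2.1.2

theorem comm23 : Commute (R.t (g • x)) (R.t (g • g • x)) := (adj_all R hg hx).2.2.2

theorem ne12 : R.t x ≠ R.t (g • x) := fun h => (adj_all R hg hx).1.1 (R.t_inj.1 h)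

theorem ne13 : R.t x ≠ R.t (g • g • x) := fun h => (adj_all R hg hx).2.1.1 (R.t_inj.1 h)

theorem ne23 : R.t (g • x) ≠ R.t (g • g • x) := fun h => (adj_all R hg hx).2.2.1 (R.t_inj.1 h)

theorem pr_sq : pr R g x * pr R g x = 1 := by
  have c12 := (comm12 R hg hx).eq
  have c13 := (comm13 R hg hx).eq
  have c23 := (comm23 R hg hx).eq
  unfold pr
  calc R.t x * R.t (g • x) * R.t (g • g • x) * (R.t x * R.t (g • x) * R.t (g • g • x))
      = R.t x * R.t (g • x) * (R.t (g • g • x) * R.t x) * R.t (g • x) * R.t (g • g • x) := by group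
    _ = R.t x * (R.t (g • x) * R.t x) * (R.t (g • g • x) * R.t (g • x)) * R.t (g • g • x) := by rw [← c13]; group
    _ = (R.t x * R.t x) * (R.t (g • x) * R.t (g • x)) * (R.t (g • g • x) * R.t (g • g • x)) := by
      rw [← c12, ← c23]; group
    _ = 1 := by rw [R.sq', R.sq', R.sq']; group

theorem pr_comm : Commute g (pr R g x) := by
  have h3 := smul3 hg x
  have e1 : g * R.t x = R.t (g • x) * g := by rw [R.map_smul]; group
  have e2 : g * R.t (g • x) = R.t (g • g • x) * g := by rw [R.map_smul g (g • x)]; group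
  have e3 : g * R.t (g • g • x) = R.t x * g := by
    have h := R.map_smul g (g • g • x)
    rw [h3] at h
    rw [h]; group
  have c12 := (comm12 R hg hx).eq
  have c13 := (comm13 R hg hx).eq
  show g * (R.t x * R.t (g • x) * R.t (g • g • x)) = (R.t x * R.t (g • x) * R.t (g • g • x)) * g
  calc g * (R.t x * R.t (g • x) * R.t (g • g • x))
      = (g * R.t x) * R.t (g • x) * R.t (g • g • x) := by group
    _ = R.t (g • x) * (g * R.t (g • x)) * R.t (g • g • x) := by rw [e1]; group
    _ = R.t (g • x) * R.t (g • g • x) * (g * R.t (g • g • x)) := by rw [e2]; group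
    _ = R.t (g • x) * (R.t (g • g • x) * R.t x) * g := by rw [e3]; group
    _ = (R.t (g • x) * R.t x) * R.t (g • g • x) * g := by rw [← c13]; group
    _ = (R.t x * R.t (g • x) * R.t (g • g • x)) * g := by rw [← c12]

end

variable {k l m : ℕ} {s : ℤ}

/-- **An element of order 3 has a centralizer of even order in the even subgroup.** -/
theorem even_cent [Finite G] [Finite X] (hk : (nb R R.x0).ncard = k) (hl : (cn R R.x0 R.c).ncard = l)
    (hm : (cn R R.x0 R.b).ncard = m) (hs : s * s = ((l : ℤ) - m) * s + ((k : ℤ) - m))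
    (ha : (l : ℤ) - m - 2 * s ≠ 0) (hd : ¬ ((l : ℤ) - m - 2 * s) ∣ ((k : ℤ) - s))
    (h2a : (2 : ℤ) ∣ (l : ℤ) - m - 2 * s) (h2k : (2 : ℤ) ∣ (k : ℤ) - s) (hs1 : Odd s)
    (hT : Tr (Set.range R.t)) (N : Subgroup G) (hN : N.index = 2) (hN' : ∀ x, R.t x ∉ N) {g : G} (hg : g ^ 3 = 1) :
    ¬ Odd (Nat.card ↥(centralizer ({g} : Set G) ⊓ N : Subgroup G)) := by
  intro hodd
  -- an involution of `C(g) ∩ N` is trivial
  have key : ∀ u ∈ N, Commute g u → u * u = 1 → u = 1 := by
    intro u hu hgu huu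
    have hmem : u ∈ (centralizer ({g} : Set G) ⊓ N : Subgroup G) :=
      ⟨mem_centralizer_singleton_iff.2 hgu.eq.symm, hu⟩
    have h1 : orderOf (⟨u, hmem⟩ : ↥(centralizer ({g} : Set G) ⊓ N : Subgroup G)) ∣ 2 :=
      orderOf_dvd_of_pow_eq_one (Subtype.ext (by rw [SubgroupClass.coe_pow]; exact (pow_two u).trans huu))
    have h2 := orderOf_dvd_natCard (⟨u, hmem⟩ : ↥(centralizer ({g} : Set G) ⊓ N : Subgroup G))
    have h3 : orderOf (⟨u, hmem⟩ : ↥(centralizer ({g} : Set G) ⊓ N : Subgroup G)) = 1 := by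
      rcases (Nat.dvd_prime Nat.prime_two).1 h1 with h | h
      · exact h
      · exfalso
        rw [h] at h2
        exact (Nat.not_even_iff_odd.2 hodd) (even_iff_two_dvd.2 h2)
    exact congrArg Subtype.val (orderOf_eq_one_iff.1 h3)
  have hNmul : ∀ a b : G, a ∉ N → b ∉ N → a * b ∈ N := by
    intro a b h1 h2
    by_contra h3
    exact h3 ((Subgroup.mul_mem_iff_of_index_two hN).2 ⟨fun h => absurd h h1, fun h => absurd h h2⟩)
  have hprN : ∀ x : X, pr R g x ∉ N := by
    intro x h
    have h1 : R.t x * R.t (g • x) ∈ N := hNmul _ _ (hN' _) (hN' _)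
    exact hN' _ ((Subgroup.mul_mem_cancel_left N h1).1 h)
  -- two commuting involutions of `C(g)` outside `N` are equal
  have eqq : ∀ u v : G, u ∉ N → v ∉ N → Commute g u → Commute g v → u * u = 1 → v * v = 1 → Commute u v → u = v := by
    intro u v hu hv hgu hgv huu hvv huv
    have h1 := key (u * v) (hNmul u v hu hv) (hgu.mul_right hgv) (by
      calc u * v * (u * v) = u * (v * u) * v := by group
        _ = (u * u) * (v * v) := by rw [← huv.eq]; group
        _ = 1 := by rw [huu, hvv, one_mul])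
    rw [mul_eq_one_iff_eq_inv] at h1
    rw [h1, inv_eq_iff_mul_eq_one, hvv]
  set F : Set X := {x | g • x = x} with hF
  set M : Set X := {x | Adj R x (g • x)} with hM
  obtain ⟨z, hz⟩ := count R hk hl hm hs ha (n := 3) (by norm_num) hg
  -- the action of an involution of `C(g)`
  have act : ∀ u : G, Commute g u → u * u = 1 → (F.ncard ≡ ({x | x ∈ F ∧ u • x = x} : Set X).ncard [MOD 2]) ∧
      (M.ncard ≡ ({x | x ∈ M ∧ u • x = x} : Set X).ncard [MOD 2]) := by
    intro u hgu huu
    have h2 : ∀ x : X, u • u • x = x := fun x => by rw [← mul_smul, huu, one_smul]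
    have hc : ∀ x : X, g • u • x = u • g • x := fun x => by rw [← mul_smul, hgu.eq, mul_smul]
    refine ⟨modEq_fix F (fun x => u • x) (fun x hx => ?_) (fun x _ => h2 x),
      modEq_fix M (fun x => u • x) (fun x hx => ?_) (fun x _ => h2 x)⟩
    · show g • u • x = u • x
      rw [hc, show g • x = x from hx]
    · show Adj R (u • x) (g • u • x)
      rw [hc, adj_smul]
      exact hx
  have hcomm_pr : ∀ (u : G) (x : X), u • x = x → Commute g u → Commute u (pr R g x) := by
    intro u x hx hgu
    have hc : ∀ y : X, u • g • y = g • u • y := fun y => by rw [← mul_smul, ← hgu.eq, mul_smul]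
    have h1 : u • g • x = g • x := by rw [hc, hx]
    have h2 : u • g • g • x = g • g • x := by rw [hc, h1]
    exact (((fix_iff R u _).1 hx).mul_right ((fix_iff R u _).1 h1)).mul_right ((fix_iff R u _).1 h2)
  have hparity : Odd ((M.ncard : ℤ) - s * (F.ncard : ℤ)) → False := by
    intro ho
    have h1 : (2 : ℤ) ∣ (M.ncard : ℤ) - s * (F.ncard : ℤ) := by
      rw [hz]
      exact dvd_add h2k (h2a.mul_right z)
    exact (Int.not_even_iff_odd.2 ho) (even_iff_two_dvd.2 h1)
  by_cases hA : F.Nonempty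
  · -- a transposition commutes with `g`
    obtain ⟨x0, hx0⟩ := hA
    have hgx : Commute g (R.t x0) := (fix_iff R g x0).1 hx0
    have hsq : R.t x0 * R.t x0 = 1 := R.sq' _
    obtain ⟨a1, a2⟩ := act (R.t x0) hgx hsq
    have e1 : ({x | x ∈ F ∧ R.t x0 • x = x} : Set X) = {x0} := by
      ext y
      constructor
      · rintro ⟨hy, hy2⟩
        have h1 := eqq (R.t x0) (R.t y) (hN' _) (hN' _) hgx ((fix_iff R g y).1 hy) hsq (R.sq' _)
          ((fix_iff R _ _).1 hy2)
        exact (R.t_inj.1 h1).symm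
      · rintro rfl
        exact ⟨hx0, (fix_iff R _ _).2 (Commute.refl _)⟩
    have e2 : ({x | x ∈ M ∧ R.t x0 • x = x} : Set X) = ∅ := by
      ext y
      constructor
      · rintro ⟨hy, hy2⟩
        exfalso
        have hy' : Adj R y (g • y) := hy
        have h1 := eqq (R.t x0) (pr R g y) (hN' _) (hprN y) hgx (pr_comm R hg hy') hsq (pr_sq R hg hy')
          (hcomm_pr _ y hy2 hgx)
        -- `t x0 = t y * t (g y) * t (g ^ 2 y)`
        have h3 : Commute (R.t (g • g • y)) (R.t x0) := by
          rw [h1]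
          exact ((comm13 R hg hy').symm.mul_right (comm23 R hg hy').symm).mul_right (Commute.refl _)
        have h4 : R.t y * R.t (g • y) = R.t x0 * R.t (g • g • y) := by
          rw [h1]
          unfold pr
          rw [mul_assoc (R.t y * R.t (g • y)), R.sq', mul_one]
        rcases pair_unique hT ⟨y, rfl⟩ ⟨g • y, rfl⟩ ⟨x0, rfl⟩ ⟨g • g • y, rfl⟩ (comm12 R hg hy') (ne12 R hg hy')
          h3.symm h4 with ⟨-, h5⟩ | ⟨-, h5⟩
        · exact ne23 R hg hy' h5.symm
        · exact ne13 R hg hy' h5.symm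
      · exact fun h => absurd h (Set.notMem_empty y)
    rw [e1, Set.ncard_singleton] at a1
    rw [e2, Set.ncard_empty] at a2
    apply hparity
    have o1 : Odd (F.ncard : ℤ) := by
      have : Odd F.ncard := Nat.odd_iff.2 a1
      exact_mod_cast this
    have o2 : Even (M.ncard : ℤ) := by
      have : Even M.ncard := Nat.even_iff.2 a2
      exact_mod_cast this
    exact o2.sub_odd (hs1.mul o1)
  · rw [Set.not_nonempty_iff_eq_empty] at hA
    by_cases hB : M.Nonempty
    · obtain ⟨x0, hx0⟩ := hB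
      have hx0' : Adj R x0 (g • x0) := hx0
      have hgx : Commute g (pr R g x0) := pr_comm R hg hx0'
      have hsq := pr_sq R hg hx0'
      obtain ⟨-, a2⟩ := act _ hgx hsq
      have e2 : ({x | x ∈ M ∧ pr R g x0 • x = x} : Set X) = {x0, g • x0, g • g • x0} := by
        ext y
        constructor
        · rintro ⟨hy, hy2⟩
          have hy' : Adj R y (g • y) := hy
          have h1 := eqq (pr R g x0) (pr R g y) (hprN _) (hprN y) hgx (pr_comm R hg hy') hsq (pr_sq R hg hy')
            (hcomm_pr _ y hy2 hgx)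
          have h2 := tri_mem hT ⟨x0, rfl⟩ ⟨g • x0, rfl⟩ ⟨g • g • x0, rfl⟩ ⟨y, rfl⟩ ⟨g • y, rfl⟩ ⟨g • g • y, rfl⟩
            (comm12 R hg hx0') (comm13 R hg hx0') (comm23 R hg hx0') (ne12 R hg hx0') (ne13 R hg hx0')
            (ne23 R hg hx0') (comm12 R hg hy') (comm13 R hg hy') (comm23 R hg hy') (ne12 R hg hy') (ne13 R hg hy')
            (ne23 R hg hy') h1
          rcases h2 with h | h | h
          · exact Or.inl (R.t_inj.1 h)
          · exact Or.inr (Or.inl (R.t_inj.1 h))
          · exact Or.inr (Or.inr (R.t_inj.1 h))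
        · have k12 := comm12 R hg hx0'
          have k13 := comm13 R hg hx0'
          have k23 := comm23 R hg hx0'
          have s1 : Adj R (g • x0) (g • g • x0) := (adj_smul R g _ _).2 hx0'
          have s2 : Adj R (g • g • x0) (g • g • g • x0) := (adj_smul R g _ _).2 s1
          rintro (rfl | rfl | rfl)
          · exact ⟨hx0, (fix_iff R _ _).2 (((Commute.refl _).mul_left k12.symm).mul_left k13.symm)⟩
          · exact ⟨s1, (fix_iff R _ _).2 ((k12.mul_left (Commute.refl _)).mul_left k23.symm)⟩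
          · exact ⟨s2, (fix_iff R _ _).2 ((k13.mul_left k23).mul_left (Commute.refl _))⟩
      have e3 : ({x0, g • x0, g • g • x0} : Set X).ncard = 3 := by
        have n12 := (adj_all R hg hx0').1.1
        have n13 := (adj_all R hg hx0').2.1.1
        have n23 := (adj_all R hg hx0').2.2.1
        exact Set.ncard_eq_three.2 ⟨_, _, _, n12, n13, n23, rfl⟩
      rw [e2, e3] at a2
      apply hparity
      have o2 : Odd (M.ncard : ℤ) := by
        have : Odd M.ncard := Nat.odd_iff.2 a2
        exact_mod_cast this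
      rw [hA, Set.ncard_empty]
      simpa using o2
    · rw [Set.not_nonempty_iff_eq_empty] at hB
      apply hd
      rw [← hF, ← hM, hA, hB, Set.ncard_empty] at hz
      refine ⟨-z, ?_⟩
      push_cast at hz
      linarith [hz]

end Cfsg.Agent.H711.SrgEven
end

-- part: H711/FiEven
section
/-!
# Elements of order 3 of `Fi24'` have a centralizer of even order (helper711)

* `even_cent` : `g : Fi24`, `g ^ 3 = 1`: the order of `C(g) ∩ Fi24'` is even;
* `even_prime` : the same for `g : Spor.Fi24'`.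
-/

set_option autoImplicit false

namespace Cfsg.Agent.H711.FiEven

open Subgroup Cfsg Cfsg.Spor Cfsg.Agent.Fischer.Abstract Cfsg.Agent.LThreeM.SrgFix Cfsg.Agent.R08
open Cfsg.Agent.R08.FiTwentyFour (L)

variable {X : Type*} [MulAction Fi24 X] (R : Rank3 Fi24 X) (hR : Set.range R.t = L)
include hR

theorem mem_L (x : X) : R.t x ∈ L := hR ▸ ⟨x, rfl⟩

theorem nb_card [Finite X] : (nb R R.x0).ncard = 31671 := by
  rw [← TetBigInst.hyp.n1 (R.t R.x0) (mem_L R hR R.x0)]
  refine Set.ncard_congr (fun x _ => R.t x) ?_ ?_ ?_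
  · intro x hx
    exact ⟨mem_L R hR x, fun h => hx.1 (R.t_inj.1 h).symm, (R.com_symm hx.2)⟩
  · intro x y _ _ h
    exact R.t_inj.1 h
  · rintro c ⟨hc, hne, hcomm⟩
    rw [← hR] at hc
    obtain ⟨x, rfl⟩ := hc
    exact ⟨x, ⟨fun h => hne (by rw [h]), hcomm.eq.symm⟩, rfl⟩

theorem cn_card [Finite X] : (cn R R.x0 R.c).ncard = 3510 := by
  have h0 : R.t R.x0 ≠ R.t R.c := fun h => R.c_ne_x0 (R.t_inj.1 h).symm
  rw [← TetBigInst.hyp.n2 (R.t R.x0) (mem_L R hR R.x0) (R.t R.c) (mem_L R hR R.c) h0 R.comm_c]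
  refine Set.ncard_congr (fun x _ => R.t x) ?_ ?_ ?_
  · intro x hx
    exact ⟨mem_L R hR x, fun h => hx.1.1 (R.t_inj.1 h).symm, fun h => hx.2.1 (R.t_inj.1 h).symm,
      (R.com_symm hx.1.2), (R.com_symm hx.2.2)⟩
  · intro x y _ _ h
    exact R.t_inj.1 h
  · rintro c ⟨hc, hne, hne2, hcomm, hcomm2⟩
    rw [← hR] at hc
    obtain ⟨x, rfl⟩ := hc
    exact ⟨x, ⟨⟨fun h => hne (by rw [h]), hcomm.eq.symm⟩, ⟨fun h => hne2 (by rw [h]), hcomm2.eq.symm⟩⟩, rfl⟩

theorem card_X : Nat.card X = 306936 := by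
  rw [← R.card_range, hR, Nat.card_coe_set_eq, FiTwentyFour.ncard_L]

theorem cb_card [Finite X] : (cn R R.x0 R.b).ncard = 3240 := by
  have h := SrgEven.param R (nb_card R hR) (cn_card R hR) rfl
  rw [card_X R hR] at h
  push_cast at h
  have h2 : ((cn R R.x0 R.b).ncard : ℚ) * 275264 = 3240 * 275264 := by linarith
  have h3 : ((cn R R.x0 R.b).ncard : ℚ) = 3240 := mul_right_cancel₀ (by norm_num) h2
  exact_mod_cast h3

omit hR in
/-- **The even centralizer.** -/
theorem even_cent {g : Fi24} (hg : g ^ 3 = 1) :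
    ¬ Odd (Nat.card ↥(centralizer ({g} : Set Fi24) ⊓ commutator Fi24 : Subgroup Fi24)) := by
  have := FiTwentyFour.finite_Fi24
  obtain ⟨R, -, -, hR⟩ := FiTwentyFour.facts.exists_rank3
  have hfin : Finite (Fi24 ⧸ Cfsg.Agent.Fischer.Fi24RepOrb.H) := inferInstance
  refine SrgEven.even_cent R (nb_card R hR) (cn_card R hR) (cb_card R hR) (s := -81) (by norm_num) (by norm_num)
    (by norm_num) (by norm_num) (by norm_num) ⟨-41, by norm_num⟩ (hR ▸ TetFi24C.facts.tr) (commutator Fi24)
    FiTwentyFour.index_commutator (fun x hx => ?_) hg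
  have h1 : closure (Set.range R.t) ≤ commutator Fi24 := by
    rw [closure_le]
    rintro _ ⟨y, rfl⟩
    obtain ⟨a, ha⟩ := R.trans x
    obtain ⟨b, hb⟩ := R.trans y
    have h2 : y = (b * a⁻¹) • x := by rw [mul_smul, ← hb, ← ha, inv_smul_smul]
    rw [h2, R.map_smul]
    exact (inferInstance : (commutator Fi24).Normal).conj_mem _ hx _
  rw [R.gen, top_le_iff] at h1
  have h3 := FiTwentyFour.index_commutator
  rw [h1, index_top] at h3
  norm_num at h3

omit hR in
/-- **Elements of order 3 of `Fi24'`** commute with an involution of `Fi24'`. -/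
theorem even_prime {g : Spor.Fi24'} (hg : g ^ 3 = 1) : ¬ Odd (Nat.card ↥(centralizer ({g} : Set Spor.Fi24'))) := by
  have h := even_cent (g := (g : Fi24)) (by rw [← SubgroupClass.coe_pow, hg]; rfl)
  have e : Nat.card ↥(centralizer ({(g : Fi24)} : Set Fi24) ⊓ commutator Fi24 : Subgroup Fi24) =
      Nat.card ↥(centralizer ({g} : Set Spor.Fi24')) := by
    refine Nat.card_congr ⟨fun x => ⟨⟨x.1, x.2.2⟩, ?_⟩, fun x => ⟨x.1.1, ?_, x.1.2⟩, fun x => rfl, fun x => rfl⟩
    · exact mem_centralizer_singleton_iff.2 (Subtype.ext (mem_centralizer_singleton_iff.1 x.2.1))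
    · exact mem_centralizer_singleton_iff.2 (congrArg Subtype.val (mem_centralizer_singleton_iff.1 x.2))
  rwa [e] at h

end Cfsg.Agent.H711.FiEven
end
end

-- part: H755/CC/Fi24
section
prune_inst 0x42000000022000000180000000002440200000000000000080004000480020220000000800000000000a0440030000811000000021000000000000001180080000002000040a000010000000005000000000000000000000000000000000000000000000
set_option linter.all false
open scoped Cfsg.Agent.FastGrp

/-!
# The row `CRow p Fi24'` (helper755, task of S3828)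

`Fi24` is a group of 3-transpositions; every element fixes a transposition or maps a transposition `x₀` to a transposition
`x₁ ≠ x₀` commuting with it (`three_aux`). In the second case, with `xᵢ = c⁻ⁱ x₀ cⁱ` and `u = x₀ x₁`,
`[c, c^u] = x₁ x₃ x₂ x₀` is an element of `C` of order dividing 2, 6, 3 or 5.
-/

set_option autoImplicit false

namespace Cfsg.Agent.H755.CC.FiTF

open Subgroup Cfsg Cfsg.Agent.H162.CCR Cfsg.Agent.R08
open Cfsg.Agent.R08.FiTwentyFour (L)
open Cfsg.Agent.Fischer.Fi24Class (gen gen_sq)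
open Cfsg.Agent.Fischer.Abstract Cfsg.Agent.LThreeM.SrgFix

section Words

variable {F : Type*} [Group F]

/-- a Coxeter element of type `A₄` -/
theorem cox_five {a b c d : F} (hc : c * c = 1) (hd : d * d = 1)
    (hab : a * b * a = b * a * b) (hbc : b * c * b = c * b * c) (hcd : c * d * c = d * c * d) (hac : a * c = c * a)
    (had : a * d = d * a) (hbd : b * d = d * b) (hab3 : (a * b) ^ 3 = 1) : (a * b * d * c) ^ 5 = 1 := by
  have key : d * (a * b * d * c) * d⁻¹ = a * b * c * d := by
    have hd' : d⁻¹ = d := inv_eq_of_mul_eq_one_left hd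
    rw [hd']
    calc d * (a * b * d * c) * d = (d * a) * b * d * c * d := by group
      _ = a * (d * b) * d * c * d := by rw [← had]; group
      _ = a * b * (d * d) * c * d := by rw [← hbd]; group
      _ = a * b * c * d := by rw [hd, mul_one]
  obtain ⟨w, hw⟩ : ∃ w, w = a * b * c * d := ⟨_, rfl⟩
  obtain ⟨v, hv⟩ : ∃ v, v = a * b * c := ⟨_, rfl⟩
  obtain ⟨u, hu⟩ : ∃ u, u = a * b := ⟨_, rfl⟩
  rw [← hw] at key
  have wa : w * a = b * w := by
    calc w * a = a * b * c * (d * a) := by rw [hw]; group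
      _ = a * b * (c * a) * d := by rw [← had]; group
      _ = (a * b * a) * c * d := by rw [← hac]; group
      _ = b * w := by rw [hab, hw]; group
  have wb : w * b = c * w := by
    calc w * b = a * b * c * (d * b) := by rw [hw]; group
      _ = a * (b * c * b) * d := by rw [← hbd]; group
      _ = (a * c) * b * c * d := by rw [hbc]; group
      _ = c * w := by rw [hac, hw]; group
  have wc : w * c = d * w := by
    calc w * c = a * b * (c * d * c) := by rw [hw]; group
      _ = a * (b * d) * c * d := by rw [hcd]; group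
      _ = (a * d) * b * c * d := by rw [hbd]; group
      _ = d * w := by rw [had, hw]; group
  have wd : w * d = v := by rw [hw, hv, mul_assoc, hd, mul_one]
  have va : v * a = b * v := by
    calc v * a = a * b * (c * a) := by rw [hv]; group
      _ = (a * b * a) * c := by rw [← hac]; group
      _ = b * v := by rw [hab, hv]; group
  have vb : v * b = c * v := by
    calc v * b = a * (b * c * b) := by rw [hv]; group
      _ = (a * c) * b * c := by rw [hbc]; group
      _ = c * v := by rw [hac, hv]; group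
  have vc : v * c = u := by rw [hv, hu, mul_assoc, hc, mul_one]
  have v4 : v * v * v * v = 1 := by
    have h2 : v * v = b * c * u := by
      calc v * v = v * (a * b * c) := by nth_rewrite 2 [hv]; rfl
        _ = (v * a) * b * c := by group
        _ = b * (v * b) * c := by rw [va]; group
        _ = b * c * (v * c) := by rw [vb]; group
        _ = b * c * u := by rw [vc]
    have h3 : v * (v * v) = c * u * u := by
      calc v * (v * v) = (v * b) * c * u := by rw [h2]; group
        _ = c * (v * c) * u := by rw [vb]; group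
        _ = c * u * u := by rw [vc]
    calc v * v * v * v = v * (v * (v * v)) := by group
      _ = (v * c) * u * u := by rw [h3]; group
      _ = u ^ 3 := by rw [vc, pow_succ, pow_two]
      _ = 1 := by rw [hu, hab3]
  have w5 : w ^ 5 = 1 := by
    have h2 : w * w = b * c * d * v := by
      calc w * w = w * (a * b * c * d) := by nth_rewrite 2 [hw]; rfl
        _ = (w * a) * b * c * d := by group
        _ = b * (w * b) * c * d := by rw [wa]; group
        _ = b * c * (w * c) * d := by rw [wb]; group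
        _ = b * c * d * (w * d) := by rw [wc]; group
        _ = b * c * d * v := by rw [wd]
    have h3 : w * (w * w) = c * d * v * v := by
      calc w * (w * w) = (w * b) * c * d * v := by rw [h2]; group
        _ = c * (w * c) * d * v := by rw [wb]; group
        _ = c * d * (w * d) * v := by rw [wc]; group
        _ = c * d * v * v := by rw [wd]
    have h4 : w * (w * (w * w)) = d * v * v * v := by
      calc w * (w * (w * w)) = (w * c) * d * v * v := by rw [h3]; group
        _ = d * (w * d) * v * v := by rw [wc]; group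
        _ = d * v * v * v := by rw [wd]
    calc w ^ 5 = w * (w * (w * (w * w))) := by
          rw [pow_succ, pow_succ, pow_succ, pow_two]; group
      _ = (w * d) * v * v * v := by rw [h4]; group
      _ = v * v * v * v := by rw [wd]
      _ = 1 := v4
  have h6 : d * (a * b * d * c) ^ 5 * d⁻¹ = 1 := by
    rw [← conj_pow, key, w5]
  have h7 : (a * b * d * c) ^ 5 = d⁻¹ * (d * (a * b * d * c) ^ 5 * d⁻¹) * d := by group
  rw [h7, h6]
  group

theorem cube_of_braid {a b : F} (ha : a * a = 1) (hb : b * b = 1) (h : a * b * a = b * a * b) : (a * b) ^ 3 = 1 := by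
  calc (a * b) ^ 3 = (a * b * a) * (b * a * b) := by rw [pow_succ, pow_two]; group
    _ = (b * a * b) * (b * a * b) := by rw [h]
    _ = b * a * (b * b) * a * b := by group
    _ = b * (a * a) * b := by rw [hb]; group
    _ = 1 := by rw [ha, mul_one, hb]

/-- the commutator -/
theorem comm_word {c x0 x1 x2 x3 : F} (h0 : x0 * x0 = 1) (h1 : x1 = c⁻¹ * x0 * c) (h2 : x2 = c⁻¹ * x1 * c)
    (h3 : x3 = c⁻¹ * x2 * c) (h : x0 * x1 = x1 * x0) :
    c⁻¹ * ((x0 * x1)⁻¹ * c * (x0 * x1))⁻¹ * c * ((x0 * x1)⁻¹ * c * (x0 * x1)) = x1 * x3 * x2 * x0 := by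
  have q1 : x1 * x1 = 1 := by
    rw [h1]
    calc c⁻¹ * x0 * c * (c⁻¹ * x0 * c) = c⁻¹ * (x0 * x0) * c := by group
      _ = 1 := by rw [h0]; group
  have q2 : x2 * x2 = 1 := by
    rw [h2]
    calc c⁻¹ * x1 * c * (c⁻¹ * x1 * c) = c⁻¹ * (x1 * x1) * c := by group
      _ = 1 := by rw [q1]; group
  have h12 : x1 * x2 = x2 * x1 := by
    calc x1 * x2 = c⁻¹ * (x0 * x1) * c := by rw [h2]; nth_rewrite 1 [h1]; group
      _ = c⁻¹ * (x1 * x0) * c := by rw [h]
      _ = x2 * x1 := by rw [h2]; nth_rewrite 3 [h1]; group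
  obtain ⟨u, hu⟩ : ∃ u, u = x0 * x1 := ⟨_, rfl⟩
  rw [← hu]
  have hui : u⁻¹ = u := by
    apply inv_eq_of_mul_eq_one_left
    calc u * u = x0 * (x1 * x0) * x1 := by rw [hu]; group
      _ = (x0 * x0) * (x1 * x1) := by rw [← h]; group
      _ = 1 := by rw [h0, q1, mul_one]
  have u1 : c⁻¹ * u * c = x1 * x2 := by
    rw [hu, h2]
    calc c⁻¹ * (x0 * x1) * c = (c⁻¹ * x0 * c) * (c⁻¹ * x1 * c) := by group
      _ = _ := by rw [← h1]
  have u2 : c⁻¹ * (x1 * x2) * c = x2 * x3 := by
    rw [h3]
    calc c⁻¹ * (x1 * x2) * c = (c⁻¹ * x1 * c) * (c⁻¹ * x2 * c) := by group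
      _ = _ := by rw [← h2]
  calc c⁻¹ * (u⁻¹ * c * u)⁻¹ * c * (u⁻¹ * c * u) = (c⁻¹ * u⁻¹ * c) * (c⁻¹ * (c⁻¹ * u * c) * c) * (c⁻¹ * u⁻¹ * c) * u := by group
    _ = (c⁻¹ * u * c) * (c⁻¹ * (c⁻¹ * u * c) * c) * (c⁻¹ * u * c) * u := by rw [hui]
    _ = (x1 * x2) * (x2 * x3) * (x1 * x2) * u := by rw [u1, u2]
    _ = x1 * (x2 * x2) * x3 * (x1 * x2) * (x0 * x1) := by rw [hu]; group
    _ = x1 * x3 * (x1 * x2) * (x1 * x0) := by rw [q2, mul_one, h]
    _ = x1 * x3 * (x2 * x1) * (x1 * x0) := by rw [h12]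
    _ = x1 * x3 * x2 * (x1 * x1) * x0 := by group
    _ = x1 * x3 * x2 * x0 := by rw [q1, mul_one]

end Words

section Abs

variable {F : Type*} [Group F]

/-- 3-transpositions -/
structure Trans (T : Set F) (K : Subgroup F) : Prop where
  sq : ∀ a ∈ T, a * a = 1
  conj : ∀ a ∈ T, ∀ g : F, g * a * g⁻¹ ∈ T
  three : ∀ a ∈ T, ∀ b ∈ T, Commute a b ∨ a * b * a = b * a * b
  even : ∀ a ∈ T, ∀ b ∈ T, a * b ∈ K
  four : ∀ a ∈ T, ∀ b ∈ T, ∀ c ∈ T, ∀ d ∈ T, a ≠ b → Commute a b → Commute a c → Commute a d → Commute b c →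
    Commute b d → a * b = c * d → c = a ∨ c = b

theorem Trans.conj' {T : Set F} {K : Subgroup F} (hT : Trans T K) {a : F} (ha : a ∈ T) (g : F) : g⁻¹ * a * g ∈ T := by
  have := hT.conj a ha g⁻¹
  rwa [inv_inv] at this

variable {T : Set F} {K : Subgroup F} (hT : Trans T K) {p : ℕ} [hp : Fact p.Prime] {C : Set K}

omit hp in
theorem eq_one_of_pow (h : Min p C) {e : K} (he : e ∈ C) {n : ℕ} (hn : n.Coprime p) (hen : e ^ n = 1) : e = 1 := by
  obtain ⟨k, hk⟩ := h.pel e he
  have h1 : orderOf e ∣ n := orderOf_dvd_of_pow_eq_one hen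
  have h2 : orderOf e ∣ 1 := by
    have h3 : n.Coprime (p ^ k) := Nat.Coprime.pow_right k hn
    have h4 := Nat.dvd_gcd h1 (hk ▸ dvd_rfl : orderOf e ∣ p ^ k)
    rwa [h3] at h4
  exact orderOf_eq_one_iff.1 (Nat.dvd_one.1 h2)

omit hp in
/-- `e ^ (m n) = 1`, `n` prime to `p`: `e ^ m = 1` -/
theorem pow_eq_one_of_pow (h : Min p C) {e : K} (he : e ∈ C) {m n : ℕ} (hn : n.Coprime p) (hen : e ^ (m * n) = 1) :
    e ^ m = 1 := by
  obtain ⟨k, hk⟩ := h.pel e he
  have h1 : orderOf e ∣ m * n := orderOf_dvd_of_pow_eq_one hen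
  have h3 : (orderOf e).Coprime n := by rw [hk]; exact (Nat.Coprime.pow_right k hn).symm
  exact orderOf_dvd_iff_pow_eq_one.1 (h3.dvd_of_dvd_mul_right h1)

include hT

omit hp in
/-- the element of `C` -/
theorem mem_word (h : Min p C) {c : K} (hc : c ∈ C) {x0 x1 x2 x3 : F} (h0 : x0 ∈ T) (h1 : x1 = (c : F)⁻¹ * x0 * c)
    (h2 : x2 = (c : F)⁻¹ * x1 * c) (h3 : x3 = (c : F)⁻¹ * x2 * c) (hcomm : Commute x0 x1) :
    ∃ e ∈ C, (e : F) = x1 * x3 * x2 * x0 := by
  have hx1 : x1 ∈ T := h1 ▸ hT.conj' h0 _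
  refine ⟨_, h.comm_conj ⟨x0 * x1, hT.even _ h0 _ hx1⟩ hc, ?_⟩
  exact comm_word (hT.sq _ h0) h1 h2 h3 hcomm.eq

omit hT in
theorem commute_conj {c x y : F} (h : Commute x y) : Commute (c⁻¹ * x * c) (c⁻¹ * y * c) := by
  show c⁻¹ * x * c * (c⁻¹ * y * c) = c⁻¹ * y * c * (c⁻¹ * x * c)
  calc c⁻¹ * x * c * (c⁻¹ * y * c) = c⁻¹ * (x * y) * c := by group
    _ = c⁻¹ * (y * x) * c := by rw [h.eq]
    _ = _ := by group

omit hT in
theorem conj_inj {c x y : F} (h : c⁻¹ * x * c = c⁻¹ * y * c) : x = y :=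
  mul_left_cancel (mul_right_cancel h)

omit hT in
theorem commute_of_conj {c x y : F} (h : Commute (c⁻¹ * x * c) (c⁻¹ * y * c)) : Commute x y := by
  have h1 : c⁻¹ * (x * y) * c = c⁻¹ * (y * x) * c := by
    calc c⁻¹ * (x * y) * c = c⁻¹ * x * c * (c⁻¹ * y * c) := by group
      _ = _ := by rw [h.eq]
      _ = _ := by group
  exact conj_inj h1

/-- **Case A**: `x₀` and `x₂` commute -/
theorem caseA [Finite K] (hO : pCore p K = ⊥) (h : Min p C) {c : K} (hc : c ∈ C) {x0 x1 x2 x3 : F} (h0 : x0 ∈ T)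
    (h1 : x1 = (c : F)⁻¹ * x0 * c) (h2 : x2 = (c : F)⁻¹ * x1 * c) (h3 : x3 = (c : F)⁻¹ * x2 * c) (hne : x0 ≠ x1)
    (hcomm : Commute x0 x1) (h02 : Commute x0 x2) : p = 2 ∧ x2 = x0 := by
  have hx1 : x1 ∈ T := h1 ▸ hT.conj' h0 _
  have hx2 : x2 ∈ T := h2 ▸ hT.conj' hx1 _
  have hx3 : x3 ∈ T := h3 ▸ hT.conj' hx2 _
  have c12 : Commute x1 x2 := by
    have := commute_conj (c := (c : F)) hcomm
    rwa [← h1, ← h2] at this
  have c23 : Commute x2 x3 := by
    have := commute_conj (c := (c : F)) c12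
    rwa [← h2, ← h3] at this
  have c13 : Commute x1 x3 := by
    have := commute_conj (c := (c : F)) h02
    rwa [← h1, ← h3] at this
  have n12 : x1 ≠ x2 := by
    intro h4
    rw [h2] at h4
    nth_rewrite 1 [h1] at h4
    exact hne (conj_inj h4)
  obtain ⟨e, heC, he⟩ := mem_word hT h hc h0 h1 h2 h3 hcomm
  have q0 := hT.sq _ h0
  have q1 := hT.sq _ hx1
  have q2 := hT.sq _ hx2
  have q3 := hT.sq _ hx3
  have e1 : (e : F) = (x1 * x2) * (x3 * x0) := by
    rw [he]
    calc x1 * x3 * x2 * x0 = x1 * (x3 * x2) * x0 := by group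
      _ = x1 * (x2 * x3) * x0 := by rw [c23.eq]
      _ = _ := by group
  have c4 : Commute (x1 * x2) (x3 * x0) :=
    (c13.mul_left c23).mul_right (hcomm.symm.mul_left h02.symm)
  have s12 : (x1 * x2) ^ 2 = 1 := by
    rw [c12.mul_pow, pow_two, pow_two, q1, q2, mul_one]
  rcases hT.three _ h0 _ hx3 with c03 | b03
  · -- all commute
    have s03 : (x3 * x0) ^ 2 = 1 := by
      rw [c03.symm.mul_pow, pow_two, pow_two, q3, q0, mul_one]
    have he2 : e ^ 2 = 1 := by
      apply Subtype.ext
      rw [Subgroup.coe_pow, e1, c4.mul_pow, s12, s03, mul_one]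
      rfl
    have he3 : e = 1 := by
      by_cases hp2 : p = 2
      · subst hp2
        exact h.sq_ne_one hO heC (by rwa [pow_two] at he2)
      · exact eq_one_of_pow h heC ((Nat.coprime_primes Nat.prime_two hp.out).2 (Ne.symm hp2)) he2
    have he4 : x0 * x1 = x2 * x3 := by
      have h5 : x1 * x2 * (x3 * x0) = 1 := by rw [← e1, he3]; rfl
      have h6 : x2 * x3 = (x0 * x1)⁻¹ := by
        apply eq_inv_of_mul_eq_one_left
        calc x2 * x3 * (x0 * x1) = x1⁻¹ * (x1 * x2 * (x3 * x0)) * x1 := by group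
          _ = 1 := by rw [h5]; group
      rw [h6, mul_inv_rev, inv_eq_of_mul_eq_one_left q0, inv_eq_of_mul_eq_one_left q1, hcomm.eq]
    have h20 : x2 = x0 := by
      rcases hT.four _ h0 _ hx1 _ hx2 _ hx3 hne hcomm h02 c03 c12 c13 he4 with h5 | h5
      · exact h5
      · exact absurd h5.symm n12
    refine ⟨?_, h20⟩
    by_contra hp2
    apply hne
    -- `c` has odd order
    obtain ⟨k, hk⟩ := h.pel c hc
    have hodd : Odd (orderOf c) := by
      rw [hk]
      exact (hp.out.odd_of_ne_two hp2).pow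
    obtain ⟨m, hm⟩ := hodd
    have hcc : Commute ((c : F) ^ 2) x0 := by
      have h5 : (c : F)⁻¹ * ((c : F)⁻¹ * x0 * c) * c = x0 := by rw [← h1, ← h2, h20]
      show (c : F) ^ 2 * x0 = x0 * (c : F) ^ 2
      nth_rewrite 1 [← h5]
      rw [pow_two]
      group
    have hc1 : (c : F) ^ (2 * (m + 1)) = c := by
      have h5 : c ^ (2 * (m + 1)) = c := by
        have h6 : 2 * (m + 1) = orderOf c + 1 := by omega
        rw [h6, pow_succ, pow_orderOf_eq_one, one_mul]
      rw [← Subgroup.coe_pow, h5]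
    have hcc2 : Commute (c : F) x0 := by
      rw [← hc1, pow_mul]
      exact hcc.pow_left _
    rw [h1, mul_assoc, ← hcc2.eq]
    group
  · -- order six
    exfalso
    have s03 : (x3 * x0) ^ 3 = 1 := cube_of_braid q3 q0 b03.symm
    by_cases hp2 : p = 2
    · have he2 : e ^ 2 = 1 := by
        refine pow_eq_one_of_pow h heC (n := 3) ?_ ?_
        · rw [hp2]; norm_num
        · apply Subtype.ext
          rw [Subgroup.coe_pow, e1, c4.mul_pow, pow_mul, s12, one_pow, one_mul, mul_comm, pow_mul, s03, one_pow]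
          rfl
      have h5 : (x3 * x0) ^ 2 = 1 := by
        have h6 : (e : F) ^ 2 = 1 := by rw [← Subgroup.coe_pow, he2]; rfl
        rwa [e1, c4.mul_pow, s12, one_mul] at h6
      have h6 : x3 * x0 = 1 := by
        have h7 : (x3 * x0) ^ 3 = (x3 * x0) ^ 2 * (x3 * x0) := pow_succ _ _
        rwa [s03, h5, one_mul, eq_comm] at h7
      have h7 : x3 = x0 := by
        rw [← inv_eq_of_mul_eq_one_left q0]
        exact eq_inv_of_mul_eq_one_left h6
      have h8 : x1 = x2 := by
        have h9 : Commute x2 x0 := h02.symm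
        -- `e = x₁ x₂`
        have h10 : e ^ 2 = 1 := he2
        subst hp2
        have h11 : e = 1 := h.sq_ne_one hO heC (by rwa [pow_two] at h10)
        have h12 : x1 * x2 = 1 := by
          have h13 : (e : F) = 1 := by rw [h11]; rfl
          rwa [e1, h6, mul_one] at h13
        rw [← inv_eq_of_mul_eq_one_left q2]
        exact eq_inv_of_mul_eq_one_left h12
      exact n12 h8
    · have he3 : e ^ 3 = 1 := by
        refine pow_eq_one_of_pow h heC (n := 2) ((Nat.coprime_primes Nat.prime_two hp.out).2 (Ne.symm hp2)) ?_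
        apply Subtype.ext
        rw [Subgroup.coe_pow, e1, c4.mul_pow, pow_mul (x3 * x0), s03, one_pow, mul_one, mul_comm, pow_mul, s12, one_pow]
        rfl
      have h5 : (x1 * x2) ^ 3 = 1 := by
        have h6 : (e : F) ^ 3 = 1 := by rw [← Subgroup.coe_pow, he3]; rfl
        rwa [e1, c4.mul_pow, s03, mul_one] at h6
      have h6 : x1 * x2 = 1 := by
        have h7 : (x1 * x2) ^ 3 = (x1 * x2) ^ 2 * (x1 * x2) := pow_succ _ _
        rwa [h5, s12, one_mul, eq_comm] at h7
      apply n12
      rw [← inv_eq_of_mul_eq_one_left q2]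
      exact eq_inv_of_mul_eq_one_left h6

/-- **Case B**: `x₀` and `x₂` do not commute -/
theorem caseB (hp5 : p ≠ 5) (h : Min p C) {c : K} (hc : c ∈ C) {x0 x1 x2 x3 : F} (h0 : x0 ∈ T)
    (h1 : x1 = (c : F)⁻¹ * x0 * c) (h2 : x2 = (c : F)⁻¹ * x1 * c) (h3 : x3 = (c : F)⁻¹ * x2 * c)
    (hcomm : Commute x0 x1) (h02 : ¬ Commute x0 x2) : p = 3 ∧ ∃ e ∈ C, e ≠ 1 ∧ e ^ 3 = 1 := by
  have hx1 : x1 ∈ T := h1 ▸ hT.conj' h0 _
  have hx2 : x2 ∈ T := h2 ▸ hT.conj' hx1 _
  have hx3 : x3 ∈ T := h3 ▸ hT.conj' hx2 _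
  have c12 : Commute x1 x2 := by
    have := commute_conj (c := (c : F)) hcomm
    rwa [← h1, ← h2] at this
  have c23 : Commute x2 x3 := by
    have := commute_conj (c := (c : F)) c12
    rwa [← h2, ← h3] at this
  have c13 : ¬ Commute x1 x3 := by
    intro h4
    rw [h1, h3] at h4
    exact h02 (commute_of_conj h4)
  obtain ⟨e, heC, he⟩ := mem_word hT h hc h0 h1 h2 h3 hcomm
  have q0 := hT.sq _ h0
  have q1 := hT.sq _ hx1
  have q2 := hT.sq _ hx2
  have q3 := hT.sq _ hx3
  have b02 := (hT.three _ h0 _ hx2).resolve_left h02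
  have b13 := (hT.three _ hx1 _ hx3).resolve_left c13
  have e1 : (e : F) = (x1 * x3) * (x2 * x0) := by rw [he]; group
  have hne1 : e ≠ 1 := by
    intro h4
    have h5 : (x1 * x3) * (x2 * x0) = 1 := by rw [← e1, h4]; rfl
    have h6 : x1 * x3 = x0 * x2 := by
      have h7 := eq_inv_of_mul_eq_one_left h5
      rwa [mul_inv_rev, inv_eq_of_mul_eq_one_left q0, inv_eq_of_mul_eq_one_left q2] at h7
    have h7 : Commute x1 (x1 * x3) := by
      rw [h6]
      exact hcomm.symm.mul_right c12
    apply c13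
    have h8 : x1 * (x1 * x3) = x1 * x3 * x1 := h7.eq
    have h9 : x1 * (x1 * x3) = x1 * (x3 * x1) := by rw [h8, mul_assoc]
    exact mul_left_cancel h9
  rcases hT.three _ h0 _ hx3 with c03 | b03
  · have c4 : Commute (x1 * x3) (x2 * x0) :=
      (c12.mul_left c23.symm).mul_right (hcomm.symm.mul_left c03.symm)
    have he3 : e ^ 3 = 1 := by
      apply Subtype.ext
      rw [Subgroup.coe_pow, e1, c4.mul_pow, cube_of_braid q1 q3 b13, cube_of_braid q2 q0 b02.symm, mul_one]
      rfl
    refine ⟨?_, e, heC, hne1, he3⟩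
    by_contra hp3
    exact hne1 (eq_one_of_pow h heC ((Nat.coprime_primes Nat.prime_three hp.out).2 (Ne.symm hp3)) he3)
  · exfalso
    apply hne1
    refine eq_one_of_pow h heC (n := 5) ((Nat.coprime_primes Nat.prime_five hp.out).2 (Ne.symm hp5)) ?_
    apply Subtype.ext
    rw [Subgroup.coe_pow, he]
    exact cox_five q0 q2 b13 b03.symm b02 hcomm.eq.symm c12.eq c23.eq.symm (cube_of_braid q1 q3 b13)

/-- **All primes different from 5**: either `p = 2` and some `c ∈ C` permutes two commuting transpositions. -/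
theorem main [Finite K] (hO : pCore p K = ⊥) (hp5 : p ≠ 5) (h : Min p C)
    (hfix : ∀ c ∈ C, (∃ t ∈ T, Commute (c : F) t) → c = 1)
    (hmove : ∀ c : K, (∃ t ∈ T, Commute (c : F) t) ∨ ∃ t ∈ T, t ≠ (c : F)⁻¹ * t * c ∧ Commute t ((c : F)⁻¹ * t * c))
    (h2 : p = 2 → ∀ c ∈ C, ∀ t ∈ T, t ≠ (c : F)⁻¹ * t * c → Commute t ((c : F)⁻¹ * t * c) →
      (c : F)⁻¹ * ((c : F)⁻¹ * t * c) * c = t → False) : ∀ c ∈ C, c = 1 := by
  have h3 : ∀ c ∈ C, c ^ 3 = 1 → c = 1 := by
    intro c hc hc3
    rcases hmove c with h4 | ⟨t, ht, hne, hcomm⟩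
    · exact hfix c hc h4
    · exfalso
      have hc3' : (c : F) ^ 3 = 1 := by rw [← Subgroup.coe_pow, hc3]; rfl
      have h02 : Commute t ((c : F)⁻¹ * ((c : F)⁻¹ * t * c) * c) := by
        have h5 := commute_conj (c := (c : F)) (commute_conj (c := (c : F)) hcomm)
        have h6 : (c : F)⁻¹ * ((c : F)⁻¹ * ((c : F)⁻¹ * t * c) * c) * c = t := by
          calc (c : F)⁻¹ * ((c : F)⁻¹ * ((c : F)⁻¹ * t * c) * c) * c = ((c : F) ^ 3)⁻¹ * t * (c : F) ^ 3 := by
                rw [pow_succ, pow_two]; group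
            _ = t := by rw [hc3']; group
        rw [h6] at h5
        exact h5.symm
      obtain ⟨hp2, h20⟩ := caseA hT hO h hc ht rfl rfl rfl hne hcomm h02
      exact h2 hp2 c hc t ht hne hcomm h20
  intro c hc
  rcases hmove c with h4 | ⟨t, ht, hne, hcomm⟩
  · exact hfix c hc h4
  · exfalso
    by_cases h02 : Commute t ((c : F)⁻¹ * ((c : F)⁻¹ * t * c) * c)
    · obtain ⟨hp2, h20⟩ := caseA hT hO h hc ht rfl rfl rfl hne hcomm h02
      exact h2 hp2 c hc t ht hne hcomm h20
    · obtain ⟨-, e, he, he1, he3⟩ := caseB hT hp5 h hc ht rfl rfl rfl hcomm h02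
      exact he1 (h3 e he he3)

end Abs

/-! ### The group `Fi24'` -/

section Inst

theorem card_G : Nat.card (commutator Spor.Fi24) = 1255205709190661721292800 := FiTwentyFour.card_commutator

theorem finite_G : Finite (commutator Spor.Fi24) := Nat.finite_of_card_ne_zero (by rw [card_G]; norm_num)

theorem simple_G : IsSimpleGroup (commutator Spor.Fi24) := FiTwentyFour.isFi24'.1

theorem not_comm_of_card {G : Type*} [Group G] [Finite G] [IsSimpleGroup G] (h : ¬ (Nat.card G).Prime) :
    ¬ IsMulCommutative G := by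
  intro hm
  let _ : CommGroup G := { (inferInstance : Group G) with mul_comm := hm.is_comm.comm }
  exact h IsSimpleGroup.prime_card

theorem na_G : ¬ IsMulCommutative (commutator Spor.Fi24) := by
  have := finite_G
  have := simple_G
  exact not_comm_of_card (by rw [card_G]; norm_num)

/-- the embedding of `Fi23` -/
noncomputable def psi : Spor.Fi23 →* commutator Spor.Fi24 := FiTwentyFour.facts.phi.codRestrict _ fun k =>
  FiTwentyFour.mem_commutator_iff.2 (FiTwentyFour.facts.sgn_phi k)

theorem psi_injective : Function.Injective psi := fun a b hab =>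
  FiTwentyFour.facts.phi_injective (congrArg Subtype.val hab)

theorem card_fi23 : Nat.card Spor.Fi23 = 4089470473293004800 := Cfsg.Agent.S1697.result.2

theorem card_range : Nat.card psi.range = 4089470473293004800 :=
  (Nat.card_congr (MonoidHom.ofInjective psi_injective).toEquiv).symm.trans card_fi23

theorem simple_range : IsSimpleGroup psi.range := by
  have : IsSimpleGroup Spor.Fi23 := Cfsg.Agent.S1697.result.1
  exact (MonoidHom.ofInjective psi_injective).symm.isSimpleGroup

theorem core_range (p : ℕ) [Fact p.Prime] : pCore p psi.range = ⊥ := by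
  have : Finite psi.range := Nat.finite_of_card_ne_zero (by rw [card_range]; norm_num)
  have := simple_range
  exact pCore_eq_bot_of_simple (not_comm_of_card (by rw [card_range]; norm_num)) p

theorem range_ne_top : psi.range ≠ ⊤ := by
  intro htop
  have h1 := card_range
  rw [htop, card_top, card_G] at h1
  norm_num at h1

/-- `Fi24'` is transitive on the transpositions -/
theorem exists_conj {t : Spor.Fi24} (ht : t ∈ L) :
    ∃ g : commutator Spor.Fi24, (g : Spor.Fi24) * gen .l * (g : Spor.Fi24)⁻¹ = t := by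
  obtain ⟨g, hg⟩ := isConj_iff.1 (show IsConj (gen .l) t from ht)
  by_cases h : g ∈ commutator Spor.Fi24
  · exact ⟨⟨g, h⟩, hg⟩
  · have h1 : g * gen .l ∈ commutator Spor.Fi24 := by
      rw [FiTwentyFour.mem_commutator_iff, map_mul, FiTwentyFour.sgn_L (FiTwentyFour.gen_mem_L .l)]
      rw [FiTwentyFour.mem_commutator_iff] at h
      rcases Int.units_eq_one_or (Cfsg.Agent.Fischer.Fi24Final.sgn g) with h2 | h2
      · exact absurd h2 h
      · rw [h2]; rfl
    refine ⟨⟨g * gen .l, h1⟩, ?_⟩
    have hll : gen .l * gen .l = (1 : Spor.Fi24) := gen_sq _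
    rw [← hg]
    show g * gen .l * gen .l * (g * gen .l)⁻¹ = _
    rw [mul_assoc g, hll, mul_inv_rev]
    have hl : (gen .l : Spor.Fi24)⁻¹ = gen .l := inv_eq_of_mul_eq_one_left hll
    rw [hl]
    group

variable {p : ℕ} [hp : Fact p.Prime] {C : Set (commutator Spor.Fi24)}

/-- elements of `C` commuting with a transposition -/
theorem eq_one_of_comm (h : Min p C) {c : commutator Spor.Fi24} (hc : c ∈ C) {t : Spor.Fi24} (ht : t ∈ L)
    (hct : Commute (c : Spor.Fi24) t) : c = 1 := by
  obtain ⟨g, rfl⟩ := exists_conj ht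
  have hmem : ((g⁻¹ * c * g : commutator Spor.Fi24) : Spor.Fi24) * gen .l =
      gen .l * ((g⁻¹ * c * g : commutator Spor.Fi24) : Spor.Fi24) := by
    simp only [Subgroup.coe_mul, Subgroup.coe_inv]
    calc (g : Spor.Fi24)⁻¹ * c * g * gen .l = (g : Spor.Fi24)⁻¹ * (c * (g * gen .l * (g : Spor.Fi24)⁻¹)) * g := by group
      _ = (g : Spor.Fi24)⁻¹ * (g * gen .l * (g : Spor.Fi24)⁻¹ * c) * g := by rw [hct.eq]
      _ = gen .l * ((g : Spor.Fi24)⁻¹ * c * g) := by group
  obtain ⟨k, hk⟩ := (FiTwentyFour.facts.mem_range_iff _).2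
    ⟨hmem, FiTwentyFour.mem_commutator_iff.1 (g⁻¹ * c * g : commutator Spor.Fi24).2⟩
  have h1 : g⁻¹ * c * g ∈ psi.range := ⟨k, Subtype.ext hk⟩
  have h2 := h.eq_one_of_mem range_ne_top (core_range p) (h.conj_mem' g hc) h1
  calc c = g * (g⁻¹ * c * g) * g⁻¹ := by group
    _ = 1 := by rw [h2]; group

/-- every element fixes a transposition or maps one to a commuting one -/
theorem dich (g : Spor.Fi24) : (∃ t ∈ L, Commute g t) ∨
    ∃ t ∈ L, t ≠ g⁻¹ * t * g ∧ Commute t (g⁻¹ * t * g) := by
  have := FiTwentyFour.finite_Fi24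
  obtain ⟨R, -, -, hR⟩ := FiTwentyFour.facts.exists_rank3
  have hfin : Finite (Spor.Fi24 ⧸ Cfsg.Agent.Fischer.Fi24RepOrb.H) := inferInstance
  rcases three_aux R (Cfsg.Agent.H711.FiEven.nb_card R hR) (Cfsg.Agent.H711.FiEven.cn_card R hR)
    (Cfsg.Agent.H711.FiEven.cb_card R hR) (s := -81) (by norm_num) (by norm_num) (by norm_num)
    (g := g⁻¹) (n := orderOf g⁻¹) (orderOf_pos _) (pow_orderOf_eq_one _) with ⟨x, hx⟩ | ⟨x, hx⟩
  · refine Or.inl ⟨R.t x, hR ▸ ⟨x, rfl⟩, ?_⟩
    have h1 : Commute g⁻¹ (R.t x) := (R.smul_eq_iff_comm g⁻¹ x).1 hx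
    have h2 := h1.inv_left
    rwa [inv_inv] at h2
  · refine Or.inr ⟨R.t x, hR ▸ ⟨x, rfl⟩, ?_, ?_⟩
    · have e : g⁻¹ * R.t x * g = R.t (g⁻¹ • x) := by rw [R.map_smul, inv_inv]
      rw [e]
      exact fun h => hx.1 (R.t_inj.1 h)
    · have e : g⁻¹ * R.t x * g = R.t (g⁻¹ • x) := by rw [R.map_smul, inv_inv]
      rw [e]
      exact hx.2

/-- no relations of length four -/
theorem trans : Trans L (commutator Spor.Fi24) where
  sq := fun a ha => FiTwentyFour.sq ha
  conj := fun a ha g => FiTwentyFour.conj ha g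
  three := fun a ha b hb => FiTwentyFour.three ha hb
  even := fun _ ha _ hb => FiTwentyFour.even ha hb
  four := by
    intro a ha b hb c hc d hd hab cab cac cad cbc cbd he
    by_contra hcon
    push Not at hcon
    obtain ⟨hca, hcb⟩ := hcon
    have qa := FiTwentyFour.sq ha
    have qb := FiTwentyFour.sq hb
    have qc := FiTwentyFour.sq hc
    have qd := FiTwentyFour.sq hd
    have ccd : Commute c d := by
      have h1 : Commute c (a * b) := cac.symm.mul_right cbc.symm
      rw [he] at h1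
      have h2 : c * (c * d) = c * (d * c) := by rw [h1.eq, mul_assoc]
      exact mul_left_cancel h2
    have hda : d ≠ a := by
      rintro rfl
      rw [ccd.eq] at he
      exact hcb (mul_left_cancel he).symm
    have hdb : d ≠ b := by
      rintro rfl
      exact hca (mul_right_cancel he).symm
    obtain ⟨π, -, hker, -, -, hinj⟩ := FiTwentyFour.loc ha hb hab cab
    have hmem : ∀ x ∈ L, Commute a x → Commute b x → a * x ∈ commutator Spor.Fi24 ⊓ centralizer {a, b} := by
      intro x hx h1 h2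
      refine ⟨FiTwentyFour.even ha hx, mem_centralizer_iff.2 ?_⟩
      intro w hw
      rcases hw with rfl | rfl
      · exact ((Commute.refl w).mul_right h1).eq
      · exact (cab.symm.mul_right h2).eq
    have h1 := hinj c hc hca hcb cac.symm cbc.symm d hd hda hdb cad.symm cbd.symm ⟨_, hmem c hc cac cbc⟩
      ⟨_, hmem d hd cad cbd⟩ rfl rfl ?_
    · rw [h1, qd] at he
      apply hab
      rw [← inv_eq_of_mul_eq_one_left qb]
      exact eq_inv_of_mul_eq_one_left he
    · rw [← mul_inv_eq_one, ← map_inv, ← map_mul, hker]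
      right
      show a * c * (a * d)⁻¹ = a * b
      rw [mul_inv_rev, inv_eq_of_mul_eq_one_left qa, inv_eq_of_mul_eq_one_left qd, he]
      calc a * c * (d * a) = a * (c * d) * a := by group
        _ = a * (a * b) * a := by rw [he]
        _ = (a * a) * (b * a) := by group
        _ = c * d := by rw [qa, one_mul, ← cab.eq, he]

/-- `C(t, s) ∩ Fi24'` -/
abbrev KK (t s : Spor.Fi24) : Subgroup Spor.Fi24 := commutator Spor.Fi24 ⊓ centralizer {t, s}

/-- `p = 2`: an element of `C` swapping two commuting transpositions -/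
theorem swap_false {C : Set (commutator Spor.Fi24)} (h : Min 2 C) {c : commutator Spor.Fi24} (hc : c ∈ C)
    {t : Spor.Fi24} (ht : t ∈ L) (hne : t ≠ (c : Spor.Fi24)⁻¹ * t * c)
    (hcomm : Commute t ((c : Spor.Fi24)⁻¹ * t * c))
    (h2 : (c : Spor.Fi24)⁻¹ * ((c : Spor.Fi24)⁻¹ * t * c) * c = t) : False := by
  have := finite_G
  have hsimple := simple_G
  obtain ⟨s, hs⟩ : ∃ s, s = (c : Spor.Fi24)⁻¹ * t * c := ⟨_, rfl⟩
  rw [← hs] at hne hcomm h2
  have hsL : s ∈ L := hs ▸ trans.conj' ht _
  have qt := FiTwentyFour.sq ht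
  have qs := FiTwentyFour.sq hsL
  set u : commutator Spor.Fi24 := ⟨t * s, FiTwentyFour.even ht hsL⟩ with hu
  have hu1 : u ≠ 1 := by
    intro h1
    have h3 : t * s = 1 := congrArg Subtype.val h1
    apply hne
    rw [← inv_eq_of_mul_eq_one_left qs]
    exact eq_inv_of_mul_eq_one_left h3
  -- the centraliser of `u`
  set H : Subgroup (commutator Spor.Fi24) := centralizer {u} with hH
  have hHt : H ≠ ⊤ := by
    intro h1
    apply hu1
    have h3 : u ∈ center (commutator Spor.Fi24) := by
      rw [mem_center_iff]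
      intro g
      have h4 : g ∈ H := by rw [h1]; trivial
      exact mem_centralizer_singleton_iff.1 h4
    rcases (inferInstance : (center (commutator Spor.Fi24)).Normal).eq_bot_or_eq_top with h4 | h4
    · rw [h4] at h3
      simpa using h3
    · exfalso
      apply na_G
      exact ⟨⟨fun x y => (mem_center_iff.1 (by rw [h4]; exact mem_top y : y ∈ center _) x)⟩⟩
  have hcH : c ∈ H := by
    rw [hH, mem_centralizer_singleton_iff]
    apply Subtype.ext
    show (c : Spor.Fi24) * (t * s) = t * s * c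
    have h3 : (c : Spor.Fi24)⁻¹ * (t * s) * c = t * s := by
      calc (c : Spor.Fi24)⁻¹ * (t * s) * c = ((c : Spor.Fi24)⁻¹ * t * c) * ((c : Spor.Fi24)⁻¹ * s * c) := by group
        _ = s * t := by rw [← hs, h2]
        _ = t * s := hcomm.eq.symm
    calc (c : Spor.Fi24) * (t * s) = c * ((c : Spor.Fi24)⁻¹ * (t * s) * c) := by rw [h3]
      _ = t * s * c := by group
  have hcO := h.loc H hHt c hc hcH
  -- the local subgroup
  obtain ⟨π, hπ, hker, hT, hTs, -⟩ := FiTwentyFour.loc ht hsL hne hcomm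
  have hmemH : ∀ k : KK t s, (⟨(k : Spor.Fi24), k.2.1⟩ : commutator Spor.Fi24) ∈ H := by
    intro k
    rw [hH, mem_centralizer_singleton_iff]
    apply Subtype.ext
    have h3 := mem_centralizer_iff.1 k.2.2
    have h4 : t * (k : Spor.Fi24) = k * t := h3 t (by simp)
    have h5 : s * (k : Spor.Fi24) = k * s := h3 s (by simp)
    show (k : Spor.Fi24) * (t * s) = t * s * k
    rw [← mul_assoc, ← h4, mul_assoc, ← h5, mul_assoc]
  let j : KK t s →* H :=
    { toFun := fun k => ⟨⟨(k : Spor.Fi24), k.2.1⟩, hmemH k⟩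
      map_one' := rfl
      map_mul' := fun _ _ => rfl }
  have hsm22 : IsSimpleGroup Spor.Fi22 := Cfsg.Agent.R01.Fi22Facts.isSimple
  have hc22 : Nat.card Spor.Fi22 = 64561751654400 := Cfsg.Agent.R01.Fi22Facts.card
  have hf22 : Finite Spor.Fi22 := Nat.finite_of_card_ne_zero (by rw [hc22]; norm_num)
  have hO22 : pCore 2 Spor.Fi22 = ⊥ := pCore_eq_bot_of_simple (not_comm_of_card (by rw [hc22]; norm_num)) 2
  have hN : ((pCore 2 H).comap j).map π ≤ pCore 2 Spor.Fi22 := by
    apply Cfsg.Agent.Lib.Cores.le_pCore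
    · exact Subgroup.Normal.map inferInstance _ hπ
    · apply IsPGroup.map
      refine (Cfsg.Agent.Lib.Cores.pCore_isPGroup (G := H) 2).comap_of_injective j ?_
      intro a b hab
      have h3 : ((j a : H) : commutator Spor.Fi24) = ((j b : H) : commutator Spor.Fi24) := congrArg Subtype.val hab
      have h4 : (a : Spor.Fi24) = b := congrArg (fun x : commutator Spor.Fi24 => (x : Spor.Fi24)) h3
      exact Subtype.ext h4
  have hN' : ∀ k : KK t s, j k ∈ pCore 2 H → (k : Spor.Fi24) = 1 ∨ (k : Spor.Fi24) = t * s := by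
    intro k hk
    have h3 : π k ∈ ((pCore 2 H).comap j).map π := ⟨k, hk, rfl⟩
    have h4 := hN h3
    rw [hO22, Subgroup.mem_bot] at h4
    exact (hker k).1 h4
  -- a third transposition
  obtain ⟨w, hw, hwt, hws, cwt, cws, -⟩ := hTs _ (Cfsg.Agent.R01.Fi22Facts.gen_mem .a)
  obtain ⟨w', hw'⟩ : ∃ w', w' = (c : Spor.Fi24)⁻¹ * w * c := ⟨_, rfl⟩
  have hw'L : w' ∈ L := hw' ▸ trans.conj' hw _
  have cwt' : Commute w' s := by
    have := commute_conj (c := (c : Spor.Fi24)) cwt
    rwa [← hw', ← hs] at this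
  have cws' : Commute w' t := by
    have := commute_conj (c := (c : Spor.Fi24)) cws
    rwa [← hw', h2] at this
  have qw := FiTwentyFour.sq hw
  have qw' := FiTwentyFour.sq hw'L
  have hmem : ∀ x ∈ L, Commute x t → Commute x s → ∀ y ∈ L, Commute y t → Commute y s → x * y ∈ KK t s := by
    intro x hx h3 h4 y hy h5 h6
    refine ⟨FiTwentyFour.even hx hy, mem_centralizer_iff.2 ?_⟩
    intro z hz
    rcases hz with rfl | rfl
    · exact (h3.mul_left h5).eq.symm
    · exact (h4.mul_left h6).eq.symm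
  set k1 : KK t s := ⟨t * w, hmem t ht (Commute.refl t) hcomm w hw cwt cws⟩ with hk1
  set k2 : KK t s := ⟨w' * s, hmem w' hw'L cws' cwt' s hsL hcomm.symm (Commute.refl s)⟩ with hk2
  have hk : j (k2 * k1) ∈ pCore 2 H := by
    have h3 : j (k2 * k1) = (⟨c, hcH⟩ : H)⁻¹ * ((j k1)⁻¹ * ⟨c, hcH⟩ * (j k1)⁻¹⁻¹) := by
      apply Subtype.ext
      apply Subtype.ext
      show w' * s * (t * w) = (c : Spor.Fi24)⁻¹ * ((t * w)⁻¹ * c * (t * w)⁻¹⁻¹)
      rw [inv_inv]
      have h4 : w' * s = (c : Spor.Fi24)⁻¹ * (t * w)⁻¹ * c := by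
        rw [mul_inv_rev, inv_eq_of_mul_eq_one_left qt, inv_eq_of_mul_eq_one_left qw, hw', hs]
        group
      rw [h4]
      group
    rw [h3]
    exact mul_mem (inv_mem hcO) ((inferInstance : (pCore 2 H).Normal).conj_mem _ hcO _)
  have hsw : Commute s w := cws.symm
  rcases hN' _ hk with h3 | h3
  · -- `w' w = t s`
    have h4 : w' * s * (t * w) = 1 := h3
    have h5 : t * s = w' * w := by
      have h6 : w' * s * (t * w) = (t * s) * (w' * w) := by
        calc w' * s * (t * w) = w' * (s * t) * w := by group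
          _ = w' * (t * s) * w := by rw [hcomm.eq]
          _ = (w' * (t * s)) * w := by group
          _ = ((t * s) * w') * w := by rw [(cws'.mul_right cwt').eq]
          _ = _ := by group
      rw [h6] at h4
      have h7 := eq_inv_of_mul_eq_one_left h4
      rw [h7, mul_inv_rev, inv_eq_of_mul_eq_one_left qw, inv_eq_of_mul_eq_one_left qw']
      -- `w w' = w' w`
      have h8 : Commute w' (t * s) := cws'.mul_right cwt'
      have h9 : t * s = w * w' := by
        rw [h7, mul_inv_rev, inv_eq_of_mul_eq_one_left qw, inv_eq_of_mul_eq_one_left qw']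
      rw [h9] at h8
      have h10 : w' * w * w' = w * w' * w' := by
        have := h8.eq
        rw [← mul_assoc] at this
        exact this
      exact (mul_right_cancel h10).symm
    rcases trans.four t ht s hsL w' hw'L w hw hne hcomm cws'.symm cwt.symm cwt'.symm cws.symm h5 with h6 | h6
    · apply hws
      rw [h6] at hw'
      -- `t = c⁻¹ w c`, `t = c⁻¹ s c`
      exact conj_inj (hw'.symm.trans h2.symm)
    · apply hwt
      rw [h6] at hw'
      exact conj_inj (hw'.symm.trans hs)
  · -- `w' = w`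
    have h4 : w' * s * (t * w) = t * s := h3
    have h6 : w' * s * (t * w) = (t * s) * (w' * w) := by
      calc w' * s * (t * w) = w' * (s * t) * w := by group
        _ = w' * (t * s) * w := by rw [hcomm.eq]
        _ = (w' * (t * s)) * w := by group
        _ = ((t * s) * w') * w := by rw [(cws'.mul_right cwt').eq]
        _ = _ := by group
    rw [h6, mul_eq_left] at h4
    have h7 : w' = w := by
      rw [← inv_eq_of_mul_eq_one_left qw]
      exact eq_inv_of_mul_eq_one_left h4
    have h8 : c = 1 := by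
      refine eq_one_of_comm h hc hw ?_
      show (c : Spor.Fi24) * w = w * c
      rw [h7] at hw'
      nth_rewrite 1 [hw']
      group
    apply hne
    rw [hs, h8]
    simp

theorem crow_model (p : ℕ) [hp : Fact p.Prime] : CRow p (commutator Spor.Fi24) := by
  have := finite_G
  have := simple_G
  intro C h
  have hO : pCore p (commutator Spor.Fi24) = ⊥ := pCore_eq_bot_of_simple na_G p
  by_cases hp5 : p = 5
  · subst hp5
    refine h.eq_one_of_index range_ne_top ?_ (core_range 5)
    intro h5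
    have h1 := psi.range.card_mul_index
    rw [card_range, card_G] at h1
    have h2 : psi.range.index = 306936 := by
      omega
    rw [h2] at h5
    norm_num at h5
  · refine main trans hO hp5 h (fun c hc ⟨t, ht, hct⟩ => eq_one_of_comm h hc ht hct) (fun c => dich c) ?_
    rintro rfl c hc t ht hne hcomm h2
    exact swap_false h hc ht hne hcomm h2

/-- **`Fi24'`**, all primes -/
theorem crow_fi24 {G : Type*} [Group G] (h : Spor.IsoFi24' G) (p : ℕ) [Fact p.Prime] : CRow p G := by
  obtain ⟨e⟩ := h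
  exact CRow.of_equiv e (crow_model p)

end Inst

end Cfsg.Agent.H755.CC.FiTF
end
end
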