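import Cfsg.Agent.H109.NrOrb_m3
import Cfsg.Agent.H478.RadTools_m3
import Cfsg.Agent.H981.Inv.ThData
import Cfsg.Agent.CpAutTh.Seven
import Cfsg.Agent.ThType.Main
import Cfsg.Agent.MonsterX.ThOneClass
import Cfsg.Agent.KFacts.Th.Main
import Cfsg.Agent.H162.CC.Tools3
import Cfsg.Agent.Th.D4Main
import Cfsg.Agent.Th.Final
import Cfsg.Agent.Prune
set_option linter.all false

-- part: H478/RadTh
section
set_option linter.all false
open scoped Cfsg.Agent.FastGrp

/-!
# The Thompson group has no radical elements of order 5 or 7 (helper478)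
-/

set_option autoImplicit false
set_option maxRecDepth 100000

namespace Cfsg.Agent.H478.RadTh

open Subgroup Cfsg Cfsg.Agent.H839.Rad Cfsg.Agent.H459.Rad Cfsg.Agent.H459.Iface
open Cfsg.Agent.Th.Base Cfsg.Agent.Th.Word Cfsg.Agent.Th.IndexUpper
open Cfsg.Agent.Th.Gen248
open Cfsg.Agent.Th.Hom248 (ws extra_eq)
open Cfsg.Agent.KFacts.Th.Main
open Cfsg.Agent.H478.RadTools Cfsg.Agent.H478.RadHeis
open Cfsg.Agent.H859
open Cfsg.Agent.ThType.Seven (W rho_W W_mul W_inv W_pow W_one W_eq W_ne)

instance fin : Finite Spor.Th := Cfsg.Agent.Th.Main1700.final.1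

theorem card_Th : Nat.card Spor.Th = 90745943887872000 := Cfsg.Agent.Th.Main1700.final.2.1

theorem isTh : Cfsg.IsTh Spor.Th := Cfsg.Agent.Th.Main1700.isTh

theorem simple : IsSimpleGroup Spor.Th := isTh.1

theorem center_Th : center Spor.Th = ⊥ := by
  have := simple
  exact center_eq_bot (by rw [card_Th]; norm_num)

theorem hone (u : Spor.Th) (hu : orderOf u = 2) : ∃ g : Spor.Th, g * u * g⁻¹ = gTh 1 :=
  isConj_iff.1 (Cfsg.Agent.MonsterX.ThOneClass.oneClass u (gTh 1) hu Cfsg.Agent.MonsterX.ThOneClass.orderOf_a)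

/-- the centralizers of the involutions -/
theorem radFree_invol {p : ℕ} (hp : p.Prime) (hp2 : p ≠ 2) {t : Spor.Th} (ht : orderOf t = 2) :
    RadFree p ↥(centralizer ({t} : Set Spor.Th)) := by
  obtain ⟨f, hf, hk⟩ := Cfsg.Agent.CpAutTh.Mid.exists_epi_cent ctx hone ht
  have hs : IsSimpleGroup (alternatingGroup (Fin 9)) := alternatingGroup.isSimpleGroup (by simp)
  have hcen : center (alternatingGroup (Fin 9)) = ⊥ := by
    refine center_eq_bot ?_
    rw [nat_card_alternatingGroup, Nat.card_fin, show Nat.factorial 9 / 2 = 2 * 90720 by decide +kernel]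
    exact Nat.not_prime_mul (by decide) (by decide)
  refine .of_surj hp f hf ?_ (.of_simple hp.one_lt.ne' (not_solvable hcen))
  intro x hx ho
  obtain ⟨n, hn⟩ := hk ⟨x, hx⟩
  have hn' : x ^ 2 ^ n = 1 := congrArg Subtype.val hn
  have h1 := orderOf_dvd_of_pow_eq_one hn'
  rw [ho] at h1
  exact hp2 ((Nat.prime_dvd_prime_iff_eq hp Nat.prime_two).1 (hp.dvd_of_dvd_pow h1))

/-- **No radical elements of order 7 in the Thompson group** -/
theorem noRad_seven : NoRad 7 Spor.Th := by
  intro x hx hR _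
  obtain ⟨t, ht, hxt⟩ := Cfsg.Agent.ThType.Seven.exists_involution_Th isTh hx
  refine false_of_comm hx hR ?_ hxt.symm (radFree_invol (by norm_num) (by norm_num) ht)
  rw [center_Th, mem_bot]
  rintro rfl
  rw [orderOf_one] at ht
  omega

/-! ### Elements of order 5 -/

/-- the elements of order 5 commuting with an involution are conjugate -/
theorem conj_five {x y s t : Spor.Th} (hx : orderOf x = 5) (hy : orderOf y = 5) (hs : orderOf s = 2)
    (ht : orderOf t = 2) (hsx : s * x = x * s) (hty : t * y = y * t) : IsConj x y := by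
  have key : ∀ x s : Spor.Th, orderOf x = 5 → orderOf s = 2 → s * x = x * s →
      ∃ g : Spor.Th, g * x * g⁻¹ = ev gTh Cfsg.Agent.CpAutTh.Data.X5 := by
    intro x s hx hs hsx
    obtain ⟨f, F⟩ := Cfsg.Agent.CpAutTh.Local.exists_epi ctx
    obtain ⟨g, -, h2⟩ := Cfsg.Agent.CpAutTh.Mid.exists_pair ctx hone hx hs hsx
      (P := fun z => z = ev gTh Cfsg.Agent.CpAutTh.Data.X5) (fun y hy => by
        obtain ⟨c, hc⟩ := Cfsg.Agent.CpAutTh.Local.exists_rep_five ctx F hy
        exact ⟨c, congrArg Subtype.val hc⟩)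
    exact ⟨g, h2⟩
  obtain ⟨g, hg⟩ := key x s hx hs hsx
  obtain ⟨g', hg'⟩ := key y t hy ht hty
  exact (isConj_iff.2 ⟨g, hg⟩).trans (isConj_iff.2 ⟨g', hg'⟩).symm

open Cfsg.Agent.H478.RadThA Cfsg.Agent.H478.RadThB Cfsg.Agent.H478.RadThData

theorem W_of {g h : Spor.Th} (e : Cfsg.Agent.Th.Hom248.rho g = Cfsg.Agent.Th.Hom248.rho h) : g = h :=
  Cfsg.Agent.ThType.Seven.rho_injective isTh e

theorem W2 : W RadThA.w2 = W wX ^ 2 := (W_mul _ _).trans (pow_two _).symm

theorem W2_five : W RadThA.w2 ^ 5 = 1 := by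
  apply W_of
  rw [map_pow, rho_W, map_one]
  exact e25

theorem X10 : W wX ^ 10 = 1 := by
  have h := W2_five
  rw [W2, ← pow_mul] at h
  exact h

theorem X5 : W wX ^ 5 ≠ 1 := by
  intro h
  apply eX5
  have h1 : W RadThA.w2 * W RadThA.w2 * W wX = 1 := by
    rw [W2, ← pow_add, ← pow_succ]
    exact h
  have h2 := congrArg Cfsg.Agent.Th.Hom248.rho h1
  rw [map_mul, map_mul, rho_W, rho_W, map_one] at h2
  exact h2

theorem WY : W wY * W wZ = 1 := by
  apply W_of
  rw [map_mul, rho_W, rho_W, map_one]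
  exact eYZ

theorem W1 : W wY * W RadThA.w2 * (W wY)⁻¹ = W RadThA.w1 := by
  rw [← eq_inv_of_mul_eq_one_right WY]
  exact ((W_mul _ _).trans (congrArg (· * W wZ) (W_mul _ _))).symm

theorem W02 : W w0 * W RadThA.w2 = W RadThA.w2 * W w0 := by
  apply W_of
  rw [map_mul, map_mul, rho_W, rho_W]
  exact e02

theorem W01 : W w0 * W RadThA.w1 = W RadThA.w1 * W w0 := by
  apply W_of
  rw [map_mul, map_mul, rho_W, rho_W]
  exact e01

theorem W12 : W RadThA.w1 * W RadThA.w2 = W RadThA.w2 * W RadThA.w1 * W w0 := by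
  apply W_of
  rw [map_mul, map_mul, map_mul, rho_W, rho_W, rho_W]
  exact e12

theorem W0_five : W w0 ^ 5 = 1 := by
  apply W_of
  rw [map_pow, rho_W, map_one]
  exact e05

theorem W0_ne : W w0 ≠ 1 := by
  intro h
  apply e0ne
  have h2 := congrArg Cfsg.Agent.Th.Hom248.rho h
  rw [rho_W, map_one] at h2
  exact h2

theorem comm_a : W w0 * W (.g .a) = W (.g .a) * W w0 := by
  apply W_of
  rw [map_mul, map_mul, rho_W, rho_W]
  exact e0a

theorem rel : Heis.Rel 5 (W RadThA.w2) (W RadThA.w1) (W w0) where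
  ap := W2_five
  bp := by rw [← W1, conj_pow, W2_five, mul_one, mul_inv_cancel]
  wp := W0_five
  aw := W02.symm
  bw := W01.symm
  ba := W12
  w1 := W0_ne

theorem orderOf_X5 : orderOf (W wX ^ 5) = 2 :=
  orderOf_eq_prime (by rw [← pow_mul]; exact X10) X5

theorem orderOf_a : orderOf (W (.g .a)) = 2 := by
  apply orderOf_eq_prime
  · rw [← W_pow]
    apply PresentedGroup.mk_eq_one_iff.2
    apply Subgroup.subset_normalClosure
    right
    rw [Set.mem_ofPred_eq, extra_eq]
    exact List.mem_map_of_mem (by simp [ws, Cfsg.Agent.Th.Hom248.w1])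
  · rw [← W_one]
    exact W_ne (evG_ne Cfsg.Agent.ThType.SevenBase.ck_a)

instance fact5 : Fact (Nat.Prime 5) := ⟨by norm_num⟩

theorem isConj_w2 : IsConj (W w0) (W RadThA.w2) := by
  refine conj_five (Heis.orderOf_w rel) ?_ orderOf_a orderOf_X5 comm_a.symm ?_
  · apply orderOf_eq_prime rel.ap
    intro h
    have h1 := rel.ba
    rw [h] at h1
    simp only [mul_one, one_mul] at h1
    exact rel.w1 (by
      have h2 := mul_left_cancel (a := W RadThA.w1) (b := 1) (c := W w0) (by rw [mul_one]; exact h1)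
      exact h2.symm)
  · rw [W2, ← pow_add, ← pow_add, add_comm]

theorem isConj_w1 : IsConj (W w0) (W RadThA.w1) :=
  isConj_w2.trans (isConj_iff.2 ⟨W wY, W1⟩)

/-- **No radical elements of order 5 in the Thompson group** -/
theorem noRad_five : NoRad 5 Spor.Th := by
  refine noRad_heis rel le_rfl center_Th ?_ isConj_w2 isConj_w1 (t := W (.g .a)) ?_ comm_a
    (radFree_invol (by norm_num) (by norm_num) orderOf_a)
  · intro h
    have h1 := (Heis.gp rel).card_mul_index
    rw [Heis.card rel, card_Th] at h1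
    omega
  · intro h
    have h1 := orderOf_a
    rw [h, orderOf_one] at h1
    omega

variable {K : Type*} [Group K] [Finite K]

theorem noRad_Th_five (h : Cfsg.Spor.IsoTh K) : NoRad 5 K := by
  obtain ⟨e⟩ := h
  exact NoRad.congr e noRad_five

theorem noRad_Th_seven (h : Cfsg.Spor.IsoTh K) : NoRad 7 K := by
  obtain ⟨e⟩ := h
  exact NoRad.congr e noRad_seven

end Cfsg.Agent.H478.RadTh

private theorem dce_3ab2271b4cfc : _root_.True := by
  try have : _root_.True := by simp only [_root_.Cfsg.Agent.Th.Hom248.w1.eq_1]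
  exact _root_.True.intro
end

-- part: H755/CC/ThBase
section
set_option linter.all false
open scoped Cfsg.Agent.FastGrp

/-!
# The rows `CRow p Th`: basic facts and the primes 7, 13 (helper755, S3828)
-/

set_option autoImplicit false

namespace Cfsg.Agent.H755.CC.ThB

open Subgroup Cfsg Cfsg.Agent.H162.CCR Cfsg.Agent.Lib.Cores
open Cfsg.Agent.H478.RadTh (card_Th simple center_Th radFree_invol)

abbrev G : Type := Cfsg.Spor.Th

instance finite_G : Finite G := Cfsg.Agent.H478.RadTh.fin

instance simple_G : IsSimpleGroup G := simple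

theorem centralizer_ne_top {t : G} (ht : t ≠ 1) : centralizer ({t} : Set G) ≠ ⊤ := by
  intro h
  apply ht
  have h1 : t ∈ center G := by
    rw [mem_center_iff]
    intro g
    have h2 : g ∈ centralizer ({t} : Set G) := by rw [h]; trivial
    exact mem_centralizer_singleton_iff.1 h2
  rw [center_Th] at h1
  simpa using h1

/-- no elements of order `p` in the solvable radical -/
theorem pCore_of_radFree {H : Type*} [Group H] [Finite H] {p : ℕ} [hp : Fact p.Prime]
    (h : Cfsg.Agent.H839.Rad.RadFree p H) : pCore p H = ⊥ := by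
  by_contra hne
  have h1 : p ∣ Nat.card ↥(pCore p H) := by
    obtain ⟨n, hn⟩ := IsPGroup.iff_card.1 (pCore_isPGroup (G := H) p)
    rw [hn]
    refine dvd_pow_self p ?_
    rintro rfl
    rw [pow_zero] at hn
    exact hne (card_eq_one.1 hn)
  obtain ⟨x, hx⟩ := exists_prime_orderOf_dvd_card' p h1
  have h2 : Group.IsSolvable ↥(pCore p H) := by
    have := pCore_isNilpotent (G := H) p
    infer_instance
  refine h (x : H) (by rw [Subgroup.orderOf_coe, hx]) ?_
  exact Cfsg.Agent.H459.Rad.le_rad (Cfsg.Agent.Lib.Cores.pCore_normal p) h2 x.2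

/-- `O_p(C(t)) = 1` for the involutions -/
theorem core_inv {p : ℕ} [hp : Fact p.Prime] (hp2 : p ≠ 2) (t : G) (ht1 : t ≠ 1) (ht : t * t = 1) :
    ∃ H : Subgroup G, H ≠ ⊤ ∧ centralizer {t} ≤ H ∧ pCore p H = ⊥ :=
  ⟨centralizer {t}, centralizer_ne_top ht1, le_rfl,
    pCore_of_radFree (radFree_invol hp.out hp2 (orderOf_eq_prime (by rw [pow_two, ht]) ht1))⟩

/-! ### The subgroup `³D₄(2)` -/

open Cfsg.Agent.Th.Base Cfsg.Agent.Th.Word Cfsg.Agent.Th.KOracle Cfsg.Agent.Th.IndexUpper

/-- `³D₄(2)` -/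
def L : Subgroup G := closure {gTh 1, gTh 2, gTh 3, gTh 4, gTh 5, gTh 6}

theorem card_K : Nat.card (closure ({gTh 1, gTh 2, gTh 3, gTh 4, gTh 5, gTh 6, gTh 8} : Set G)) = 634023936 := by
  have h1 := Cfsg.Agent.Th.Final.main.2.2.1
  rw [sub_isK_eq gTh_inv] at h1
  exact h1

theorem card_L : Nat.card L = 211341312 := Cfsg.Agent.Th.D4Main.card_L gTh_relK card_K

theorem simple_L : IsSimpleGroup L := Cfsg.Agent.Th.D4Main.isSimple_L gTh_relK card_K

theorem index_L : L.index = 429381000 := by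
  have h1 := L.card_mul_index
  rw [card_L] at h1
  have h2 : Nat.card G = 90745943887872000 := card_Th
  rw [h2] at h1
  omega

theorem L_ne_top : L ≠ ⊤ := by
  intro h
  have h1 := index_L
  rw [h, index_top] at h1
  omega

theorem na_L : ¬ IsMulCommutative L := by
  have := simple_L
  intro hc
  let _ : CommGroup L := { (inferInstance : Group L) with mul_comm := hc.is_comm.comm }
  have := IsSimpleGroup.prime_card (α := L)
  rw [card_L] at this
  exact absurd this (by norm_num)

theorem core_L (p : ℕ) [Fact p.Prime] : pCore p L = ⊥ := by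
  have := simple_L
  exact pCore_eq_bot_of_simple na_L p

theorem crow_of_L {p : ℕ} [hp : Fact p.Prime] (h : ¬ p ∣ 429381000) : CRow p G := by
  intro C hC
  exact hC.eq_one_of_index L_ne_top (by rwa [index_L]) (core_L p)

theorem crow_seven : @CRow 7 G _ := by
  have : Fact (Nat.Prime 7) := ⟨by norm_num⟩
  exact crow_of_L (by norm_num)

theorem crow_thirteen : @CRow 13 G _ := by
  have : Fact (Nat.Prime 13) := ⟨by norm_num⟩
  exact crow_of_L (by norm_num)

end Cfsg.Agent.H755.CC.ThB
end
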